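import Mathlib.RingTheory.PowerSeries.Exp
import Mathlib.RingTheory.PowerSeries.Derivative
import Mathlib.Algebra.MonoidAlgebra.Basic
import Mathlib.LinearAlgebra.LinearIndependent.Lemmas
import Mathlib.FieldTheory.LinearDisjoint
import Mathlib.FieldTheory.IsAlgClosed.AlgebraicClosure
import Mathlib.FieldTheory.RatFunc.AsPolynomial
import Mathlib.Algebra.CharP.Algebra

/-! Rational exponential series of exponential sums: the values are integral exponential sums. -/

set_option autoImplicit false

open Polynomial

namespace Groth.Agent.StkZeta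

variable {K : Type*} [Field K]

/-- The series `m₀ - Σ_v (Σ_r r⁻ᵛ) t^v` of a multiset of roots. -/
noncomputable def rootSeries (R : Multiset K) : PowerSeries K :=
  open Classical in
  PowerSeries.mk fun v => if v = 0 then (R.count 0 : K) else -(R.map fun r => (r⁻¹) ^ v).sum

theorem rootSeries_add (R R' : Multiset K) : rootSeries (R + R') = rootSeries R + rootSeries R' := by
  ext v
  simp only [rootSeries, PowerSeries.coeff_mk, map_add, Multiset.count_add, Multiset.map_add, Multiset.sum_add]
  split_ifs <;> push_cast <;> ring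

theorem X_eq_mul_rootSeries (r : K) :
    (PowerSeries.X : PowerSeries K) = (PowerSeries.X - PowerSeries.C r) * rootSeries {r} := by
  classical
  ext v
  rw [sub_mul, map_sub, PowerSeries.coeff_C_mul]
  rcases v with - | v
  · rw [PowerSeries.coeff_zero_X, PowerSeries.coeff_zero_X_mul, zero_sub, rootSeries, PowerSeries.coeff_mk,
      if_pos rfl, Multiset.count_singleton]
    split_ifs with h
    · simp [← h]
    · simp
  · rw [PowerSeries.coeff_succ_X_mul]
    simp only [rootSeries, PowerSeries.coeff_mk, PowerSeries.coeff_X, Multiset.map_singleton,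
      Multiset.sum_singleton, Multiset.count_singleton]
    rcases eq_or_ne r 0 with hr | hr
    · subst hr
      rcases v with - | v <;> simp
    · rcases v with - | v
      · simp [hr, Ne.symm hr]
      · have h1 : r * r⁻¹ = 1 := mul_inv_cancel₀ hr
        simp only [Nat.succ_ne_zero, if_false, add_left_inj]
        rw [pow_succ r⁻¹ (v + 1)]
        rw [if_neg (by omega : ¬ (v + 1 + 1 = 1))]
        linear_combination (-(r⁻¹ ^ (v + 1))) * h1

theorem X_mul_derivative_prod (R : Multiset K) :
    PowerSeries.X * PowerSeries.derivative K ((R.map fun r => PowerSeries.X - PowerSeries.C r).prod) =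
      (R.map fun r => PowerSeries.X - PowerSeries.C r).prod * rootSeries R := by
  induction R using Multiset.induction_on with
  | empty =>
    have : rootSeries (0 : Multiset K) = 0 := by
      ext v; simp [rootSeries]
    simp [this]
  | cons r R ih =>
    have e : (r ::ₘ R) = {r} + R := rfl
    rw [Multiset.map_cons, Multiset.prod_cons, e, rootSeries_add]
    set p := (R.map fun r => PowerSeries.X - PowerSeries.C r).prod
    have hd : PowerSeries.derivative K ((PowerSeries.X - PowerSeries.C r) * p) =
        p + (PowerSeries.X - PowerSeries.C r) * PowerSeries.derivative K p := by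
      rw [Derivation.leibniz]
      simp [smul_eq_mul]
      ring
    rw [hd, mul_add, mul_left_comm PowerSeries.X, ih]
    have h := X_eq_mul_rootSeries r
    linear_combination p * h

theorem X_mul_derivative_coe [IsAlgClosed K] (p : K[X]) :
    PowerSeries.X * PowerSeries.derivative K (p : PowerSeries K) = (p : PowerSeries K) * rootSeries p.roots := by
  have hp := (IsAlgClosed.splits p).eq_prod_roots
  have e : (p : PowerSeries K) = PowerSeries.C p.leadingCoeff *
      (p.roots.map fun r => PowerSeries.X - PowerSeries.C r).prod := by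
    conv_lhs => rw [hp]
    rw [Polynomial.coe_mul, Polynomial.coe_C]
    congr 1
    rw [← Polynomial.coeToPowerSeries.ringHom_apply, map_multiset_prod, Multiset.map_map]
    congr 1
    refine Multiset.map_congr rfl fun r _ => ?_
    simp
  rw [e, Derivation.leibniz, PowerSeries.derivative_C]
  simp only [smul_eq_mul, mul_zero, add_zero]
  rw [mul_left_comm, X_mul_derivative_prod, mul_assoc]

/-- If `exp (Σ s_v t^v / v)` is rational then `s` is an integral combination of geometric sequences. -/
theorem exists_int_expSum [CharZero K] [IsAlgClosed K] [Algebra ℚ K] (s : ℕ → ℚ) (P Q : ℚ[X]) (hQ : Q ≠ 0)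
    (h : (PowerSeries.exp ℚ).subst (PowerSeries.mk fun v : ℕ => if v = 0 then (0 : ℚ) else s v / (v : ℚ)) *
      (Q : PowerSeries ℚ) = (P : PowerSeries ℚ)) :
    ∃ c : Kˣ →₀ ℤ, ∀ v : ℕ, v ≠ 0 → algebraMap ℚ K (s v) = c.sum fun u n => (n : K) * (u : K) ^ v := by
  classical
  set L : PowerSeries ℚ := PowerSeries.mk fun v : ℕ => if v = 0 then (0 : ℚ) else s v / (v : ℚ) with hL
  have hL0 : PowerSeries.constantCoeff L = 0 := by
    rw [← PowerSeries.coeff_zero_eq_constantCoeff_apply, hL, PowerSeries.coeff_mk, if_pos rfl]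
  have hsub := PowerSeries.HasSubst.of_constantCoeff_zero' hL0
  set E := (PowerSeries.exp ℚ).subst L with hE
  have hE' : PowerSeries.derivative ℚ E = E * PowerSeries.derivative ℚ L := by
    rw [hE, PowerSeries.derivative_subst hsub, PowerSeries.derivative_exp]
  have hEne : E ≠ 0 := fun h0 => by
    have := congrArg PowerSeries.constantCoeff h0
    rw [← PowerSeries.coeff_zero_eq_constantCoeff_apply, hE, PowerSeries.coeff_subst' hsub,
      finsum_eq_single _ 0] at this
    · simp at this
    · intro d hd
      rw [PowerSeries.coeff_zero_eq_constantCoeff_apply, map_pow, hL0, zero_pow hd, smul_zero]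
  have hQc : (Q : PowerSeries ℚ) ≠ 0 := by simpa using hQ
  -- the logarithmic derivative
  have key : (Q : PowerSeries ℚ) * (PowerSeries.X * PowerSeries.derivative ℚ (P : PowerSeries ℚ)) -
      (P : PowerSeries ℚ) * (PowerSeries.X * PowerSeries.derivative ℚ (Q : PowerSeries ℚ)) =
        (P : PowerSeries ℚ) * (Q : PowerSeries ℚ) * (PowerSeries.X * PowerSeries.derivative ℚ L) := by
    rw [← h, Derivation.leibniz, hE']
    simp only [smul_eq_mul]
    ring
  let φ : PowerSeries ℚ →+* PowerSeries K := PowerSeries.map (algebraMap ℚ K)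
  have hφp : ∀ p : ℚ[X], φ (p : PowerSeries ℚ) = ((p.map (algebraMap ℚ K) : K[X]) : PowerSeries K) := fun p => by
    ext v; simp [φ, Polynomial.coeff_coe]
  have hφd : ∀ f : PowerSeries ℚ, φ (PowerSeries.derivative ℚ f) = PowerSeries.derivative K (φ f) := fun f => by
    ext v
    rw [PowerSeries.coeff_map, PowerSeries.coeff_derivative, PowerSeries.coeff_derivative, PowerSeries.coeff_map,
      map_mul, map_add, map_natCast, map_one]
  have key' := congrArg φ key
  simp only [map_sub, map_mul, hφd, hφp, φ, PowerSeries.map_X] at key'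
  set P' : K[X] := P.map (algebraMap ℚ K)
  set Q' : K[X] := Q.map (algebraMap ℚ K)
  have hPQ : (P' : PowerSeries K) * (Q' : PowerSeries K) ≠ 0 := by
    refine mul_ne_zero ?_ ?_
    · simp only [ne_eq, Polynomial.coe_eq_zero_iff, P', Polynomial.map_eq_zero]
      intro h0
      rw [h0, Polynomial.coe_zero] at h
      exact mul_ne_zero hEne hQc h
    · simpa [Q', Polynomial.map_eq_zero] using hQ
  have main : PowerSeries.X * PowerSeries.derivative K (φ L) = rootSeries P'.roots - rootSeries Q'.roots := by
    refine mul_left_cancel₀ hPQ (key'.symm.trans ?_)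
    rw [X_mul_derivative_coe, X_mul_derivative_coe]
    ring
  let pw : K → (Kˣ →₀ ℤ) := fun r => if hr : r⁻¹ = 0 then 0 else Finsupp.single (Units.mk0 _ hr) 1
  have hpw : ∀ (r : K) (v : ℕ), v ≠ 0 → ((pw r).sum fun u n => (n : K) * (u : K) ^ v) = r⁻¹ ^ v := fun r v hv => by
    simp only [pw]
    split_ifs with hr
    · simp [hr, hv]
    · rw [Finsupp.sum_single_index (by simp)]
      simp
  have hsum : ∀ (R : Multiset K) (v : ℕ), v ≠ 0 →
      (((R.map pw).sum).sum fun u n => (n : K) * (u : K) ^ v) = (R.map fun r => r⁻¹ ^ v).sum := fun R v hv => by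
    induction R using Multiset.induction_on with
    | empty => simp
    | cons r R ih =>
      rw [Multiset.map_cons, Multiset.sum_cons, Multiset.map_cons, Multiset.sum_cons,
        Finsupp.sum_add_index' (by simp) (fun _ a b => by push_cast; ring), ih, hpw r v hv]
  refine ⟨(Q'.roots.map pw).sum - (P'.roots.map pw).sum, fun v hv => ?_⟩
  rw [Finsupp.sum_sub_index (fun _ a b => by push_cast; ring), hsum _ v hv, hsum _ v hv]
  obtain ⟨w, rfl⟩ : ∃ w, v = w + 1 := ⟨v - 1, by omega⟩
  have hc := congrArg (PowerSeries.coeff (w + 1)) main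
  rw [PowerSeries.coeff_succ_X_mul, PowerSeries.coeff_derivative, map_sub] at hc
  simp only [rootSeries, PowerSeries.coeff_mk, φ, PowerSeries.coeff_map, hL, if_neg (Nat.succ_ne_zero w)] at hc
  rw [show algebraMap ℚ K (s (w + 1) / ((w + 1 : ℕ) : ℚ)) * ((w : K) + 1) = algebraMap ℚ K (s (w + 1)) by
    rw [map_div₀, map_natCast]
    push_cast
    rw [div_mul_cancel₀]
    exact_mod_cast Nat.succ_ne_zero w] at hc
  rw [hc]
  ring

/-- Exponential sums are linearly independent. -/
theorem eq_zero_of_expSum (f : Kˣ →₀ K) (h : ∀ v : ℕ, v ≠ 0 → (f.sum fun u a => a * (u : K) ^ v) = 0) : f = 0 := by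
  classical
  have hind := linearIndependent_monoidHom (Multiplicative ℕ) K
  have hinj : Function.Injective (fun u : Kˣ => powersHom K (u : K)) := fun u u' e =>
    Units.ext ((powersHom K).injective e)
  have hind' := hind.comp _ hinj
  rw [linearIndependent_iff] at hind'
  have hzero := hind' (f.sum fun u a => Finsupp.single u (a * (u : K))) (by
    rw [Finsupp.linearCombination_apply]
    ext m
    rw [Finsupp.sum_sum_index (by simp) (by intros; simp [add_smul])]
    simp only [Finsupp.sum_single_index, zero_smul]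
    have hm := h (Multiplicative.toAdd m + 1) (Nat.succ_ne_zero _)
    rw [Finsupp.sum] at hm ⊢
    simp only [Finset.sum_apply, Pi.smul_apply, Function.comp_apply, Pi.zero_apply, smul_eq_mul, powersHom_apply]
    rw [← hm]
    refine Finset.sum_congr rfl fun u _ => ?_
    rw [pow_succ]
    ring)
  ext u
  have hu := DFunLike.congr_fun hzero u
  rw [Finsupp.sum_apply] at hu
  rw [Finsupp.sum, Finset.sum_eq_single u] at hu
  · simpa [u.ne_zero] using hu
  · intro b _ hb
    simp [Finsupp.single_eq_of_ne (Ne.symm hb)]
  · intro hu'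
    simp [Finsupp.notMem_support_iff.1 hu']

/-- An exponential sum equal to a rational function of `q^v` only has powers of `q`. -/
theorem mem_zpowers_of_expSum (q : Kˣ) (hq : Function.Injective fun e : ℤ => q ^ e) (A D : K[X]) (hD : D ≠ 0)
    (c : Kˣ →₀ K)
    (h : ∀ v : ℕ, v ≠ 0 → A.eval ((q : K) ^ v) = D.eval ((q : K) ^ v) * c.sum fun u a => a * (u : K) ^ v) :
    ∀ u ∈ c.support, ∃ e : ℤ, q ^ e = u := by
  classical
  intro β hβ
  by_contra hcon
  let S := c.support.filter fun u => ∃ j : ℤ, β * q ^ j = u
  have hS : (0 : ℤ) ∈ S.preimage (fun j : ℤ => β * q ^ j) (fun a _ b _ e => hq (mul_left_cancel e)) := by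
    simp only [Finset.mem_preimage, S, Finset.mem_filter]
    exact ⟨by simpa using hβ, 0, rfl⟩
  obtain ⟨j, hj, hmax⟩ := Finset.exists_max_image _ id ⟨_, hS⟩
  let f : Kˣ →₀ K := (∑ i ∈ D.support, (c.mapDomain (fun u => q ^ (i : ℤ) * u)).mapRange (D.coeff i * ·) (mul_zero _)) -
    ∑ i ∈ A.support, Finsupp.single (q ^ (i : ℤ)) (A.coeff i)
  have hf : f = 0 := eq_zero_of_expSum f fun v hv => by
    let ev : (Kˣ →₀ K) →+ K :=
      { toFun := fun g => g.sum fun u a => a * (u : K) ^ v
        map_zero' := Finsupp.sum_zero_index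
        map_add' := fun a b => Finsupp.sum_add_index' (by simp) (by intros; ring) }
    have hev : ∀ g, ev g = g.sum fun u a => a * (u : K) ^ v := fun _ => rfl
    show ev f = 0
    have e2 : ev (∑ i ∈ A.support, Finsupp.single (q ^ (i : ℤ)) (A.coeff i)) = A.eval ((q : K) ^ v) := by
      rw [map_sum, Polynomial.eval_eq_sum, Polynomial.sum_def]
      refine Finset.sum_congr rfl fun i _ => ?_
      rw [hev]
      rw [Finsupp.sum_single_index (by simp), zpow_natCast, Units.val_pow_eq_pow_val, ← pow_mul, ← pow_mul, mul_comm i]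
    have e1 : ev (∑ i ∈ D.support, (c.mapDomain (fun u => q ^ (i : ℤ) * u)).mapRange (D.coeff i * ·) (mul_zero _)) =
        D.eval ((q : K) ^ v) * ev c := by
      rw [map_sum, Polynomial.eval_eq_sum, Polynomial.sum_def, Finset.sum_mul]
      refine Finset.sum_congr rfl fun i _ => ?_
      rw [hev, hev]
      rw [Finsupp.sum_mapRange_index (by simp), Finsupp.sum_mapDomain_index (by simp) (by intros; ring),
        Finsupp.sum, Finsupp.sum, Finset.mul_sum]
      refine Finset.sum_congr rfl fun u _ => ?_
      rw [Units.val_mul, zpow_natCast, Units.val_pow_eq_pow_val, mul_pow, ← pow_mul, ← pow_mul, mul_comm i]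
      ring
    rw [show f = _ - _ from rfl, map_sub, e1, e2, h v hv]
    exact sub_self _
  have hu := DFunLike.congr_fun hf (β * q ^ (j + (D.natDegree : ℤ)))
  simp only [f, Finsupp.coe_sub, Pi.sub_apply, Finsupp.coe_zero, Pi.zero_apply] at hu
  have h0 : (∑ i ∈ A.support, Finsupp.single (q ^ (i : ℤ)) (A.coeff i)) (β * q ^ (j + (D.natDegree : ℤ))) = 0 := by
    rw [Finsupp.finsetSum_apply]
    refine Finset.sum_eq_zero fun i _ => Finsupp.single_eq_of_ne fun e => hcon ⟨i - (j + D.natDegree), ?_⟩
    rw [zpow_sub, ← e, mul_inv_cancel_right]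
  rw [h0, sub_zero, Finsupp.finsetSum_apply, Finset.sum_eq_single D.natDegree] at hu
  · rw [Finsupp.mapRange_apply, show β * q ^ (j + (D.natDegree : ℤ)) = q ^ (D.natDegree : ℤ) * (β * q ^ j) by
      rw [zpow_add]; ac_rfl,
      Finsupp.mapDomain_apply (mul_right_injective _)] at hu
    have hjS := hj
    simp only [Finset.mem_preimage, S, Finset.mem_filter] at hjS
    exact mul_ne_zero (Polynomial.leadingCoeff_ne_zero.2 hD) (Finsupp.mem_support_iff.1 hjS.1) hu
  · intro i hi hne
    have hlt : i < D.natDegree := lt_of_le_of_ne (Polynomial.le_natDegree_of_mem_supp i hi) hne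
    rw [Finsupp.mapRange_apply,
      show β * q ^ (j + (D.natDegree : ℤ)) = q ^ (i : ℤ) * (β * q ^ (j + ((D.natDegree : ℤ) - i))) by
        rw [zpow_add q j, zpow_add q j, zpow_sub]
        rw [mul_left_comm (q ^ (i : ℤ)) β, mul_left_comm (q ^ (i : ℤ)) (q ^ j), mul_comm (q ^ (D.natDegree : ℤ)) (q ^ (i : ℤ))⁻¹,
          mul_inv_cancel_left],
      Finsupp.mapDomain_apply (mul_right_injective _)]
    refine mul_eq_zero_of_right _ (Finsupp.notMem_support_iff.1 fun hin => ?_)
    have := hmax (j + ((D.natDegree : ℤ) - i)) (by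
      simp only [Finset.mem_preimage, S, Finset.mem_filter]
      exact ⟨hin, _, rfl⟩)
    simp only [id_eq] at this
    omega
  · intro hn
    exact absurd (Polynomial.natDegree_mem_support_of_nonzero hD) hn

end Groth.Agent.StkZeta
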